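import Mathlib
import Cfsg.Agent.Base
import Cfsg.Agent.Lib.Ord.Flt2
import Cfsg.Agent.Lib.Ord.Sq

/-! A principal block of defect one with three non-exceptional characters `1`, `α`, `β`. -/

set_option autoImplicit false
set_option linter.unusedSectionVars false
set_option linter.style.haveILetI false

open Cfsg H17.Ord Subgroup
open scoped ComplexConjugate

namespace H8.K4

/-- order of the centraliser of an element -/
noncomputable abbrev cc {G : Type*} [Group G] (g : G) : ℕ := Nat.card (centralizer ({g} : Set G))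

/-- values `a`, `b` of the two non-trivial non-exceptional characters (degrees `A`, `B`);
the exceptional characters have degree `D` and value `a + b - 1` on `p`-regular elements -/
structure UB (G : Type*) [Group G] [Finite G] (n p A B D : ℕ) where
  a : G → ℤ
  b : G → ℤ
  a1 : a 1 = A
  cls : ∀ g h, a (h * g * h⁻¹) = a g
  res : ∀ (H : Subgroup G) [Fintype H], ∃ m : ℕ, ∑ x : H, a x = Nat.card H * m
  cong : ∀ (r k : ℕ) (g : G), r.Prime → g ^ r ^ k = 1 → (A : ℤ) ≡ a g [ZMOD r]
  vanB : ∀ r : ℕ, r.Prime → ¬ r ∣ n / B → ∀ g, r ∣ orderOf g → b g = 0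
  dvdD : ∀ g, ¬ p ∣ orderOf g → (D : ℤ) ∣ (n / cc g : ℕ) * (a g + b g - 1)
  tri : ∀ s t, ¬ p ∣ orderOf s → ¬ p ∣ orderOf t → ∃ N : ℕ, (s * s = 1 → t * t = 1 → N = 0) ∧
    (N * cc s * cc t : ℤ) = n - (n / A : ℕ) * (a s * a t) - (n / B : ℕ) * (b s * b t) +
      (n / D : ℕ) * ((a s + b s - 1) * (a t + b t - 1))
  bnd : ∀ u, u ≠ 1 → ¬ p ∣ orderOf u →
    p * ((n / cc u : ℕ) * ((a u + b u - 1) * (a u + b u)) + D * (D + 1) : ℤ) ≤ 2 * n
  cen : ∀ u : G, u ≠ 1 → ¬ p ∣ orderOf u → ¬ p ∣ cc u

variable {G : Type*} [Group G] [Finite G]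

theorem index_eq_div (g : G) : (centralizer ({g} : Set G)).index = Nat.card G / cc g :=
  (Nat.div_eq_of_eq_mul_right Nat.card_pos (card_mul_index _).symm).symm

theorem res_nat {χ : G → ℂ} (hχ : IsCharacter G χ) (H : Subgroup G) [Fintype H] :
    ∃ m : ℕ, ∑ x : H, χ x = Nat.card H * m := by
  obtain ⟨m, hm⟩ := H6.char_inner_nat (H6.isCharacter_restrict H hχ) (irr_chr (triv H))
  have := H6.card_mul_classInner (G := H) (fun x => χ x) (triv H : H → ℂ)
  rw [hm] at this
  exact ⟨m, by simpa [triv_apply] using this.symm⟩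

theorem exists_UB [IsSimpleGroup G] (hna : ∃ a b : G, a * b ≠ b * a) {n p A B D : ℕ}
    [hp : Fact p.Prime] (hG : Nat.card G = n) {P : Subgroup G} (K : PB G p P 3)
    (hC : centralizer (P : Set G) = P) [DecidableEq (IrrCharacter G)]
    (hA : cnt (K.X ∪ K.Y) A = 1) (hB : cnt (K.X ∪ K.Y) B = 1)
    (h : 4 < p ∧ A % p = p - 1 ∧ B % p = p - 1 ∧ A ≠ B ∧ D + 1 = A + B) :
    Nonempty (UB G n p A B D) := by
  classical
  haveI := Fintype.ofFinite G
  obtain ⟨h4, hA', hB', hAB, hD⟩ := h
  obtain ⟨α, a1, a2, a3⟩ := cnt_eq_one hA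
  obtain ⟨β, b1, b2, b3⟩ := cnt_eq_one hB
  obtain ⟨θ, hθ⟩ := K.Y_nonempty
  rw [Finset.mem_union] at a1 b1
  choose a ha using K.int_of_unique a1 fun ψ h1 h2 => a3 ψ (Finset.mem_union.2 h1) (h2.trans a2)
  choose b hb using K.int_of_unique b1 fun ψ h1 h2 => b3 ψ (Finset.mem_union.2 h1) (h2.trans b2)
  have αX := K.mem_X (by norm_num) (by omega) hC (χ := α) (.inr (a2 ▸ hA'))
  have βX := K.mem_X (by norm_num) (by omega) hC (χ := β) (.inr (b2 ▸ hB'))
  have tX := K.triv_mem_X (by omega) hna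
  have εα : K.ε α = -1 := ((K.modX αX).resolve_left fun h => by rw [a2, hA'] at h; omega).1
  have εβ : K.ε β = -1 := ((K.modX βX).resolve_left fun h => by rw [b2, hB'] at h; omega).1
  have A1 : A ≠ 1 := by rintro rfl; rw [Nat.mod_eq_of_lt (by omega)] at hA'; omega
  have B1 : B ≠ 1 := by rintro rfl; rw [Nat.mod_eq_of_lt (by omega)] at hB'; omega
  have n1 : triv G ≠ α := fun e => A1 (by rw [← a2, ← e, dg_triv])
  have n2 : triv G ≠ β := fun e => B1 (by rw [← b2, ← e, dg_triv])
  have n3 : α ≠ β := fun e => hAB (by rw [← a2, e, b2])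
  have hX : K.X = {triv G, α, β} := (Finset.eq_of_subset_of_card_le (by
    intro x hx
    simp only [Finset.mem_insert, Finset.mem_singleton] at hx
    rcases hx with rfl | rfl | rfl <;> assumption) (by
      rw [K.cardX, Finset.card_eq_three.2 ⟨_, _, _, n1, n2, n3, rfl⟩])).symm
  have sX : ∀ {M : Type} [AddCommMonoid M] (f : IrrCharacter G → M),
      ∑ χ ∈ K.X, f χ = f (triv G) + f α + f β := fun f => by
    rw [hX, Finset.sum_insert (by simp [n1, n2]), Finset.sum_pair n3, add_assoc]
  have d1 := K.deg_eq hθ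
  rw [sX, K.ε_triv tX, εα, εβ, a2, b2, dg_triv] at d1
  have pA := a2 ▸ dg_pos α
  have pB := b2 ▸ dg_pos β
  have hδ : K.δ = -1 := K.dsgn.resolve_left fun e => by rw [e] at d1; omega
  have d2 : dg θ = D := by rw [hδ] at d1; omega
  have hc : ∀ g, ¬ p ∣ orderOf g → (θ : G → ℂ) g = (a g + b g - 1 : ℤ) := fun g hg => by
    have := K.rel θ hθ g hg
    rw [sX, K.ε_triv tX, εα, εβ, hδ, ha, hb, triv_apply] at this
    push_cast at this ⊢
    linear_combination -this
  have va : ∀ g, p ∣ orderOf g → a g = -1 := fun g hg => by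
    have := K.valX α αX g hg
    rw [ha, εα] at this; exact_mod_cast this
  have vb : ∀ g, p ∣ orderOf g → b g = -1 := fun g hg => by
    have := K.valX β βX g hg
    rw [hb, εβ] at this; exact_mod_cast this
  have e1 : a 1 = A := by have := dg_cast α; rw [ha, a2] at this; exact_mod_cast this
  have e2 : b 1 = B := by have := dg_cast β; rw [hb, b2] at this; exact_mod_cast this
  have cl : ∀ g h, a (h * g * h⁻¹) = a g := fun g h => by
    have := irr_cls α g h
    rw [ha, ha] at this; exact_mod_cast this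
  have cl' : ∀ g h, b (h * g * h⁻¹) = b g := fun g h => by
    have := irr_cls β g h
    rw [hb, hb] at this; exact_mod_cast this
  have dv : ∀ {χ : IrrCharacter G} {d : ℕ}, dg χ = d → ((n / d : ℕ) : ℂ) = n / d := fun {χ d} e =>
    Nat.cast_div (e ▸ hG ▸ dg_dvd χ) (Nat.cast_ne_zero.2 (e ▸ dg_pos χ).ne')
  refine ⟨⟨a, b, e1, cl, fun H _ => ?_, fun r k g hr hg => a2 ▸ modEq_of_val (irr_chr α) hr hg (ha g),
    fun r hr h g hg => ?_, fun g hg => ?_, fun s t hs ht => ?_, fun u u1 hu => ?_,
    fun u u1 hu => not_dvd_cent_of (K.ord_eq hC) hu u1⟩⟩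
  · obtain ⟨m, hm⟩ := res_nat (irr_chr α) H
    simp only [ha] at hm
    exact ⟨m, by exact_mod_cast hm⟩
  · have := van_of_mul (χ := β) hr (c := n / B)
      (by rw [b2, hG]; exact Nat.div_mul_cancel (b2 ▸ hG ▸ dg_dvd β)) h hg
    rw [hb] at this; exact_mod_cast this
  · have := dvd_central θ (hc g hg)
    rwa [d2, index_eq_div, hG] at this
  · obtain ⟨y, hy, o⟩ := K.exists_sing
    have y1 : p ∣ orderOf y := o ▸ dvd_rfl
    have k : ∑ χ : IrrCharacter G, (χ : G → ℂ) s * (χ : G → ℂ) t * conj ((χ : G → ℂ) y) /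
        (χ : G → ℂ) 1 = 1 - a s * a t / A - b s * b t / B +
          (a s + b s - 1) * (a t + b t - 1) / D := by
      rw [← Finset.sum_subset (Finset.subset_univ (K.X ∪ K.Y)) (fun χ _ h => by
          rw [Finset.mem_union, not_or] at h
          rw [K.van hC χ h.1 h.2 y y1]; simp), Finset.sum_union K.disj, sX,
        Finset.sum_congr (s₁ := K.Y) rfl fun χ h => by
          rw [mul_div_right_comm, dg_cast, K.regY _ h _ hθ s hs, K.regY _ h _ hθ t ht,
            K.dgY h hθ], ← Finset.mul_sum, ← map_sum, K.sumY y y1, hδ, hc s hs, hc t ht, d2]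
      simp only [triv_apply, ha, hb, va y y1, vb y y1, e1, e2]
      simp; ring
    have k2 := H31.classCoeff_eq s t y
    have c1 := (centralizer ({s} : Set G)).card_mul_index
    have c2 := (centralizer ({t} : Set G)).card_mul_index
    have n0 : (n : ℂ) ≠ 0 := Nat.cast_ne_zero.2 (hG ▸ Nat.card_pos.ne')
    refine ⟨H31.classCoeff s t y, fun s2 t2 => ?_, ?_⟩
    · rw [pair_sum_zero s2 t2 (not_isConj_inv hp.out (by omega) K.card
        (K.he.symm ▸ by decide) hy (by rintro rfl; rw [orderOf_one] at o; omega)), mul_zero] at k2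
      exact_mod_cast k2
    · rw [k, hG] at k2
      rw [hG] at c1 c2
      have c3 : (cc s : ℂ) * (centralizer ({s} : Set G)).index = n := by exact_mod_cast c1
      have c4 : (cc t : ℂ) * (centralizer ({t} : Set G)).index = n := by exact_mod_cast c2
      have : ((H31.classCoeff s t y * cc s * cc t : ℤ) : ℂ) = ((n - (n / A : ℕ) * (a s * a t) -
          (n / B : ℕ) * (b s * b t) + (n / D : ℕ) * ((a s + b s - 1) * (a t + b t - 1)) : ℤ) : ℂ) := by
        simp only [Int.cast_mul, Int.cast_sub, Int.cast_add, Int.cast_natCast, Int.cast_one,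
          dv a2, dv b2, dv d2]
        rw [k2, div_mul_eq_mul_div, div_mul_eq_mul_div, div_mul_eq_mul_div, div_eq_iff n0]
        linear_combination ((centralizer ({t} : Set G)).index * cc t * c3 + n * c4) *
          (1 - a s * a t / A - b s * b t / B + (a s + b s - 1) * (a t + b t - 1) / D : ℂ)
      exact_mod_cast this
  · have rα : ∀ g, conj ((α : G → ℂ) g) = (α : G → ℂ) g := fun g => by rw [ha, map_intCast]
    have rβ : ∀ g, conj ((β : G → ℂ) g) = (β : G → ℂ) g := fun g => by rw [hb, map_intCast]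
    have s1 := sum_mul_real α α rα
    have s2 := sum_mul_real α β rβ
    have s3 := sum_mul_real β β rβ
    have s4 := sum_eq_zero_of_ne (χ := α) (a2 ▸ A1)
    have s5 := sum_eq_zero_of_ne (χ := β) (b2 ▸ B1)
    rw [if_pos rfl, hG] at s1 s3
    rw [if_neg n3] at s2
    simp only [ha, hb] at s1 s2 s3 s4 s5
    have s6 : ∑ g, (a g + b g - 1) * (a g + b g) = 2 * (n : ℤ) := by
      have : ((∑ g, (a g + b g - 1) * (a g + b g) : ℤ) : ℂ) = ∑ g, (a g : ℂ) * a g +
          2 * ∑ g, (a g : ℂ) * b g + ∑ g, (b g : ℂ) * b g - ∑ g, (a g : ℂ) - ∑ g, (b g : ℂ) := by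
        push_cast
        simp only [Finset.mul_sum, ← Finset.sum_add_distrib, ← Finset.sum_sub_distrib]
        exact Finset.sum_congr rfl fun g _ => by ring
      rw [s1, s2, s3, s4, s5] at this
      have h2 : ((∑ g, (a g + b g - 1) * (a g + b g) : ℤ) : ℂ) = ((2 * n : ℤ) : ℂ) := by
        rw [this]; push_cast; ring
      exact_mod_cast h2
    set T := Finset.univ.filter (IsConj u ·) with hT
    have mT : ∀ g ∈ T, ∃ c, c * u * c⁻¹ = g := fun g hg => isConj_iff.1 (Finset.mem_filter.1 hg).2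
    have cT : T.card = n / cc u := by
      rw [← hG, ← index_eq_div, ← H6.card_isConj_eq_index, Nat.card_eq_fintype_card,
        Fintype.card_subtype]
    have t1 : (1 : G) ∉ T ∪ ordF G p := fun h => by
      rcases Finset.mem_union.1 h with h | h
      · obtain ⟨c, hc⟩ := mT 1 h
        exact u1 (by simpa using hc)
      · rw [mem_ordF, orderOf_one] at h; omega
    have t2 : Disjoint T (ordF G p) := Finset.disjoint_left.2 fun g h h' => by
      obtain ⟨c, rfl⟩ := mT g h
      rw [mem_ordF, H35.orderOf_conj] at h'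
      exact hu (h' ▸ dvd_rfl)
    have s7 := Finset.sum_le_sum_of_subset_of_nonneg (f := fun g => (a g + b g - 1) * (a g + b g))
      (Finset.subset_univ (insert 1 (T ∪ ordF G p))) fun g _ _ => by
        rcases le_or_gt (a g + b g) 0 with h | h <;> nlinarith
    rw [s6, Finset.sum_insert t1, Finset.sum_union t2, e1, e2,
      Finset.sum_congr (s₁ := T) rfl (g := fun _ => (a u + b u - 1) * (a u + b u)) (fun g hg => by
        obtain ⟨c, rfl⟩ := mT g hg
        rw [cl, cl']), Finset.sum_const, cT, nsmul_eq_mul,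
      sum_ordF (card_ordF_prime K.card K.ind) (a := 6) fun g hg => by
        rw [va g (hg ▸ dvd_rfl), vb g (hg ▸ dvd_rfl)]; norm_num] at s7
    have s8 := K.index_mul (c := 1) (by rw [hC, K.card, mul_one])
    rw [hG] at s8
    have s9 : ((normalizer (P : Set G)).index * (p * 1 * 3) : ℤ) = n := by exact_mod_cast s8
    have s10 : (A + B : ℤ) = D + 1 := by exact_mod_cast hD.symm
    rw [Nat.cast_mul, Nat.cast_sub hp.out.one_le, s10] at s7
    have : (0 : ℤ) ≤ p := Int.natCast_nonneg p
    have := mul_le_mul_of_nonneg_left s7 this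
    push_cast at this ⊢
    nlinarith

end H8.K4
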