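import Mathlib
import Cfsg.Agent.Base
import Cfsg.Agent.Lib.Ord.DegG
import Cfsg.Agent.Lib.J3O.GenB

/-! Reduction of the recognition problem to simple groups. -/

set_option autoImplicit false
set_option linter.style.haveILetI false
set_option linter.unusedSectionVars false

open Cfsg H4.Sv H17.Ord

universe u

namespace H8.K4
variable {G : Type u} [Group G] [Finite G]

theorem quasi_or {p m : ℕ} [hp : Fact p.Prime] (hG : Nat.card G ∣ p * m) (hm : ¬ p ∣ m)
    (hmm : ∀ r b, r.Prime → 0 < b → r ^ b ∣ m → ¬ p ∣ r ^ b - 1) {y : G} (hy : orderOf y = p) :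
    (∃ (T : Type u) (_ : Group T) (_ : Finite T), IsSimpleGroup T ∧ ¬ IsMulCommutative T ∧
      p ∣ Nat.card T ∧ Nat.card T ∣ Nat.card G) ∨ ∀ g, g * y * g⁻¹ ∈ Subgroup.zpowers y := by
  set L := Subgroup.normalClosure ({y} : Set G)
  have yL : ∀ g, g * y * g⁻¹ ∈ L := fun g =>
    (inferInstance : L.Normal).conj_mem _ (Subgroup.subset_normalClosure rfl) g
  have oy : ∀ g, orderOf (⟨_, yL g⟩ : L) = p := fun g => by
    rw [Subgroup.orderOf_mk, ← hy]; exact (MulAut.conj g).orderOf_eq y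
  have gen : ∀ M : Subgroup L, (∀ g, (⟨_, yL g⟩ : L) ∈ M) → M = ⊤ := fun M h => by
    rw [eq_top_iff]
    rintro ⟨x, hx⟩ -
    have : L ≤ M.map L.subtype := (Subgroup.closure_le _).mpr fun z hz => by
      obtain ⟨w, rfl, h2⟩ := Group.mem_conjugatesOfSet_iff.mp hz
      obtain ⟨g, rfl⟩ := isConj_iff.mp h2
      exact ⟨_, h g, rfl⟩
    obtain ⟨w, h1, h2⟩ := this hx
    exact (Subtype.ext h2 : w = ⟨x, hx⟩) ▸ h1
  have pL : p ∣ Nat.card L := oy 1 ▸ orderOf_dvd_natCard _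
  have cL : Nat.card L ∣ p * m := (Subgroup.card_subgroup_dvd_card L).trans hG
  have hb : (⊥ : Subgroup L) ≠ ⊤ := fun e => by
    have : (⟨_, yL 1⟩ : L) ∈ (⊥ : Subgroup L) := e ▸ Subgroup.mem_top _
    have h2 := oy 1
    rw [Subgroup.mem_bot.mp this, orderOf_one] at h2
    exact hp.out.one_lt.ne h2
  have key : ∀ (K : Subgroup L) [K.Normal], p ∣ Nat.card K → ∀ g, (⟨_, yL g⟩ : L) ∈ K :=
    fun K _ h g => by
      have e1 : ¬ p ∣ K.index := fun e => by
        have := (Nat.mul_dvd_mul h e).trans (K.card_mul_index ▸ cL)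
        exact hm (Nat.dvd_of_mul_dvd_mul_left hp.out.pos this)
      rw [← QuotientGroup.eq_one_iff, ← orderOf_eq_one_iff]
      have e2 : orderOf ((⟨_, yL g⟩ : L) : L ⧸ K) ∣ p :=
        oy g ▸ orderOf_map_dvd (QuotientGroup.mk' K) _
      refine ((Nat.dvd_prime hp.out).mp e2).resolve_right fun e => e1 ?_
      rw [← e]; exact orderOf_dvd_natCard _
  obtain ⟨K, k1, k2, -, k3⟩ := H3.exists_maximal_normal_ge (⊥ : Subgroup L) hb
  have pK : ¬ p ∣ Nat.card K := fun h => k2 (gen K (key K h))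
  have cK : Nat.card K ∣ m := ((Nat.Prime.coprime_iff_not_dvd hp.out).mpr pK).symm.dvd_of_dvd_mul_left
    ((Subgroup.card_subgroup_dvd_card K).trans cL)
  have hZ : K ≤ Subgroup.center L := fun k hk => by
    have := gen (Subgroup.centralizer {k}) fun g => by
      have := le_cent_of_large hm hmm (oy g) cK (by simp [Subgroup.normalizer_eq_top]) hk
      rw [Subgroup.mem_centralizer_singleton_iff] at this ⊢
      exact this.symm
    refine Subgroup.mem_center_iff.mpr fun x => ?_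
    exact Subgroup.mem_centralizer_singleton_iff.mp (this ▸ Subgroup.mem_top x)
  haveI := H3.isSimpleGroup_quotient_of_maximal_normal K k2 k3
  by_cases hc : IsMulCommutative (L ⧸ K)
  · right
    letI : CommGroup (L ⧸ K) := { (inferInstance : Group (L ⧸ K)) with mul_comm := hc.is_comm.comm }
    haveI : IsCyclic (L ⧸ K) := IsSimpleGroup.isCyclic
    have h1 := (MonoidHom.isMulCommutative_of_isCyclic_of_ker_le_center (QuotientGroup.mk' K)
      (by rwa [QuotientGroup.ker_mk'])).is_comm.comm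
    haveI : (Subgroup.zpowers (⟨_, yL 1⟩ : L)).Normal :=
      ⟨fun a ha b => by rwa [h1 b a, mul_inv_cancel_right]⟩
    intro g
    obtain ⟨j, hj⟩ := key (Subgroup.zpowers (⟨_, yL 1⟩ : L)) (by rw [Nat.card_zpowers, oy]) g
    exact ⟨j, by simpa using congrArg Subtype.val hj⟩
  · refine Or.inl ⟨L ⧸ K, inferInstance, inferInstance, this, hc, ?_,
      (K.index_dvd_card).trans (Subgroup.card_subgroup_dvd_card L)⟩
    rw [← K.card_mul_index] at pL
    exact ((Nat.Prime.dvd_mul hp.out).mp pL).resolve_left pK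

theorem npp {p m : ℕ} (hm : m ≠ 0)
    (h : ∀ d ∈ divs m, p ∣ d - 1 → d = 1 ∨ ∃ a ∈ [2, 3, 5, 7, 11, 23, 31],
      ∃ b ∈ [2, 3, 5, 7, 11, 23, 31], a ≠ b ∧ a ∣ d ∧ b ∣ d) :
    ∀ r b, r.Prime → 0 < b → r ^ b ∣ m → ¬ p ∣ r ^ b - 1 := fun r _ hr hb h1 h2 => by
  have hp : ∀ a ∈ [2, 3, 5, 7, 11, 23, 31], a.Prime := by decide
  rcases h _ (mem_divs hm h1) h2 with h3 | ⟨a, ha, c, hc, h3, h4, h5⟩
  · exact (Nat.one_lt_pow hb.ne' hr.one_lt).ne' h3
  · exact h3 (((Nat.prime_dvd_prime_iff_eq (hp a ha) hr).mp ((hp a ha).dvd_of_dvd_pow h4)).trans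
      ((Nat.prime_dvd_prime_iff_eq (hp c hc) hr).mp ((hp c hc).dvd_of_dvd_pow h5)).symm)

/-- simplicity from a character of `p`-defect zero -/
theorem simple_of {p m : ℕ} [hp : Fact p.Prime] (hG : Nat.card G = p * m) (hm : ¬ p ∣ m)
    (hmm : ∀ r b, r.Prime → 0 < b → r ^ b ∣ m → ¬ p ∣ r ^ b - 1) (hd : p ∈ degreePrimes G)
    (hk : ∀ (T : Type u) [Group T] [Finite T] [IsSimpleGroup T], ¬ IsMulCommutative T →
      p ∣ Nat.card T → Nat.card T ∣ p * m → Nat.card T = p * m) :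
    IsSimpleGroup G ∧ ¬ IsMulCommutative G := by
  obtain ⟨-, _, ⟨χ, rfl⟩, h0⟩ := hd
  obtain ⟨L, K, _, _, -, h2, h3, h4⟩ := exists_quasi hG hm hmm χ.2 h0
  have h := hk (L ⧸ K) h4 h3
    (hG ▸ (K.index_dvd_card).trans (Subgroup.card_subgroup_dvd_card L))
  have e1 := K.card_mul_index
  have e2 := L.card_mul_index
  rw [← Subgroup.index, ← hG] at h
  rw [← e1, h, mul_right_comm] at e2
  have e3 : Nat.card K * L.index = 1 :=
    Nat.eq_of_mul_eq_mul_right (Nat.card_pos (α := G)) (by rw [e2, one_mul])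
  have e4 := Subgroup.index_eq_one.mp (Nat.eq_one_of_mul_eq_one_left e3)
  have e5 := Subgroup.card_eq_one.mp (Nat.eq_one_of_mul_eq_one_right e3)
  subst e4 e5
  have e := (Subgroup.topEquiv.symm.trans QuotientGroup.quotientBot.symm :
    G ≃* (⊤ : Subgroup G) ⧸ (⊥ : Subgroup (⊤ : Subgroup G)))
  exact ⟨e.isSimpleGroup, fun hc => h4 ⟨⟨fun x y =>
    e.symm.injective (by rw [map_mul, map_mul, hc.is_comm.comm])⟩⟩⟩

theorem na_of (h : ¬ IsMulCommutative G) : ∃ a b : G, a * b ≠ b * a := by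
  by_contra k; push Not at k; exact h ⟨⟨k⟩⟩

variable [IsSimpleGroup G]

/-- a self-centralising Sylow subgroup whose block is not everything gives a vertex -/
theorem vert {p e N : ℕ} [hp : Fact p.Prime] {P : Subgroup G} (B : PB G p P e)
    (hna : ¬ IsMulCommutative G) (he : 1 < e) (hG : Nat.card G = N)
    (hC : Subgroup.centralizer (P : Set G) = P) [DecidableEq (IrrCharacter G)] {o : List ℕ}
    (h : ∀ d, d ≠ 1 → cnt (B.X ∪ B.Y) d = o.count d) (hg : H17.Ord.good p e o = true)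
    (hs : 1 + (o.map (· ^ 2)).sum ≠ N) : p ∈ degreePrimes G := by
  obtain ⟨L, l1, l2, l3, -⟩ := H8.J3O.colsL B (na_of hna) he hG (c := 1)
    (by rw [hC, B.card, mul_one]) h hg
  by_contra hc
  apply hs
  have k : (Finset.univ : Finset (IrrCharacter G)) = insert (triv G) L.toFinset := by
    ext χ
    simp only [Finset.mem_univ, Finset.mem_insert, List.mem_toFinset, l2, true_iff]
    by_cases e : χ = triv G
    · exact Or.inl e
    · exact Or.inr ⟨B.mem_of_not_dvd hC fun k => hc ⟨hp.out, _, ⟨χ, rfl⟩, k⟩, e⟩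
  simp only [H17.Ord.good, Bool.and_eq_true, List.isPerm_iff] at hg
  rw [← hG, ← sum_dg_sq, k, Finset.sum_insert (by simp [l2]), dg_triv, List.sum_toFinset _ l1,
    ← (hg.1.map _).sum_eq, ← l3, List.map_map]
  rfl

noncomputable def VK (n p e : ℕ) (K : List ℕ → Bool) : Bool :=
  optsAll n p fun e' c => feasF n p e' c (fun _ => true) fun o => e' == e && c == 1 &&
    H17.Ord.good p e o && 1 + (o.map (· ^ 2)).sum != n && K o

theorem blkV (hna : ¬ IsMulCommutative G) (p : ℕ) [hp : Fact p.Prime] {n m e : ℕ}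
    (hG : Nat.card G = n) (h1 : n = p * m ∧ ¬ p ∣ m ∧ p ≠ 2) {K : List ℕ → Bool}
    (h : VK n p e K = true) [DecidableEq (IrrCharacter G)] : p ∈ degreePrimes G ∧
      ∃ P : Subgroup G, Subgroup.centralizer (P : Set G) = P ∧ ∃ B : PB G p P e, ∃ o, K o = true ∧
        ∀ d, d ≠ 1 → cnt (B.X ∪ B.Y) d = o.count d := by
  obtain ⟨P, e', c, hc, ⟨B⟩⟩ := exists_PB (na_of hna) p (hG.trans h1.1) h1.2.1
  obtain ⟨he, k⟩ := B.opts (na_of hna) hG hc h
  obtain ⟨o, o1, -, o3⟩ := B.sieveF (na_of hna) h1.2.2 hG hc (fun _ _ _ => rfl) k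
  simp only [Bool.and_eq_true, beq_iff_eq, bne_iff_ne] at o1
  obtain ⟨⟨⟨⟨rfl, rfl⟩, a1⟩, a2⟩, a3⟩ := o1
  have hC := selfcent_of_card B.card (by rw [hc, mul_one])
  exact ⟨vert B hna he hG hC o3 a1 a2, P, hC, B, o, a3, o3⟩

end H8.K4
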