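import Mathlib
import Cfsg.Agent.Base
import Cfsg.Agent.Lib.K4G.Red

/-! Numerical checks: proper divisors of the orders and principal blocks. -/

set_option autoImplicit false

open H4.Sv H17.Ord

namespace H8.K4

abbrev KD (p m : ℕ) : Prop := ∀ d ∈ divs m, d = m ∨ kill (p * d) = true

theorem k23 : KD 23 264 := by decide +kernel
theorem k13 : KD 13 600 := by decide +kernel
theorem k47 : KD 47 1104 := by decide +kernel
theorem k41 : KD 41 6480 := by decide +kernel
theorem k43 : KD 43 131712 := by decide +kernel
theorem k73 : KD 73 583200 := by decide +kernel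

theorem v23 : VK 6072 23 11 (fun _ => true) = true := by decide +kernel
theorem v13 : VK 7800 13 2 (fun _ => true) = true := by decide +kernel
theorem v47 : VK 51888 47 23 (fun _ => true) = true := by decide +kernel
theorem v41 : VK 265680 41 2 (fun _ => true) = true := by decide +kernel
theorem vz8 : VK 29120 13 4 (fun _ => true) = true := by decide +kernel
theorem vz32 : VK 32537600 41 4 (fun _ => true) = true := by decide +kernel

theorem KD.card {p m : ℕ} (h : KD p m) (hp : 0 < p) (hm : m ≠ 0) (T : Type*) [Group T] [Finite T]
    [IsSimpleGroup T] (h1 : ¬ IsMulCommutative T) (h2 : p ∣ Nat.card T)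
    (h3 : Nat.card T ∣ p * m) : Nat.card T = p * m := by
  obtain ⟨d, hd⟩ := h2
  rcases h d (mem_divs hm (Nat.dvd_of_mul_dvd_mul_left hp (hd ▸ h3))) with rfl | k
  · exact hd
  · exact absurd hd (card_ne h1 k)

end H8.K4
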