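import Mathlib
import Cfsg.Agent.Base
import Cfsg.Agent.Lib.J3O.Defs

/-! Numerical checks for the divisors of `5515776`. -/

set_option autoImplicit false

open H4.Sv H17.Ord H8.J3O

namespace H8.K4

noncomputable def okC (n e c : ℕ) (o : List ℕ) : Bool :=
  H17.Ord.good 19 e o && bif c % 2 == 0 then
    (divs (19 * c * e)).all fun C => C % 19 != 0 || (cl n 19 e c C (fl [7, 19] 19 C) o).isEmpty
  else (divs n).all fun C => C % (bif n % 32 == 0 then 32 else 16) != 0 ||
    (cl n 19 e c C (fl [7, 19] 19 C) o).isEmpty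

noncomputable def K19 (n e c : ℕ) : Bool :=
  (n == 5515776 && e == 3 && c == 1) || (e == 18 && c % 2 == 0 && decide (c ≤ 16)) ||
    (n == 344736 && e == 18 && c == 1) || feasF n 19 e c (fun _ => true) (okC n e c)

def surv : List ℕ :=
  [5515776, 2757888, 1838592, 1378944, 919296, 689472, 459648, 344736, 229824, 172368, 114912]

theorem kill19 : ∀ d ∈ divs 290304, 19 * d ∈ surv ∨ kill (19 * d) = true := by decide +kernel

theorem opts19 : ∀ n ∈ surv, 16 ∣ n ∧ optsAll n 19 (K19 n) = true := by decide +kernel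

theorem opts7 : optsAll 344736 7 (fun e c => feasF 344736 7 e c
    (fun d => d % 19 == 0 || ((d % 19 == 1 || d % 19 == 18) && d != 18)) fun _ => false) = true := by
  decide +kernel

theorem blk19 : feasF 5515776 19 3 1 (fun _ => true)
    (fun o => o.count 56 == 1 && o.count 512 == 1) = true := by decide +kernel

theorem mod76 : ∀ d ∈ divs 290304, d % 19 = 1 ∨ d % 19 = 18 → d = 1 ∨ (d % 76 ≠ 1 ∧ d % 76 ≠ 75) := by
  decide +kernel

end H8.K4
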