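import Mathlib
import Cfsg.Agent.Base
import Cfsg.Agent.Lib.K4G.Red
import Cfsg.Agent.Lib.K4G.Num
import Cfsg.Agent.Lib.J3O.P17

/-! Simple groups whose order divides 5515776 and is divisible by 19. -/

set_option autoImplicit false
set_option linter.style.haveILetI false
set_option linter.unusedSectionVars false

open Cfsg H4.Sv H17.Ord H8.J3O

universe u

namespace H8.K4
variable {G : Type u} [Group G] [Finite G] [IsSimpleGroup G]

theorem cen_lt (hna : ¬ IsMulCommutative G) {z : G} (hz : z ≠ 1) :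
    Nat.card (Subgroup.centralizer ({z} : Set G)) < Nat.card G := by
  refine (Subgroup.card_le_card_group _).lt_of_ne fun h => ?_
  have h1 := Subgroup.eq_top_of_card_eq _ h
  have h2 : z ∈ Subgroup.center G := Subgroup.mem_center_iff.mpr fun g =>
    Subgroup.mem_centralizer_singleton_iff.mp (h1 ▸ Subgroup.mem_top g)
  rcases IsSimpleGroup.eq_bot_or_eq_top_of_normal (Subgroup.center G) inferInstance with h | h
  · exact hz (Subgroup.mem_bot.mp (h ▸ h2))
  · exact hna ⟨⟨fun a b => Subgroup.mem_center_iff.mp (h ▸ Subgroup.mem_top b) a⟩⟩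

theorem npp19 : ∀ r b, r.Prime → 0 < b → r ^ b ∣ 290304 → ¬ 19 ∣ r ^ b - 1 :=
  npp (by norm_num) (by decide +kernel)

theorem cen_dvd (hna : ¬ IsMulCommutative G) (hG : Nat.card G ∣ 5515776)
    (IH : ∀ (T : Type u) [Group T] [Finite T] [IsSimpleGroup T], ¬ IsMulCommutative T →
      Nat.card T < Nat.card G → Nat.card T ∣ 5515776 → ¬ 19 ∣ Nat.card T)
    {P : Subgroup G} {e c : ℕ} (B : PB G 19 P e)
    (hc : Nat.card (Subgroup.centralizer (P : Set G)) = 19 * c) (h2 : c % 2 = 0) :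
    ∃ z : G, orderOf z = 2 ∧ 19 ∣ Nat.card (Subgroup.centralizer ({z} : Set G)) ∧
      Nat.card (Subgroup.centralizer ({z} : Set G)) ∣ 19 * c * e := by
  obtain ⟨⟨z, hz⟩, o⟩ := exists_prime_orderOf_dvd_card' (G := Subgroup.centralizer (P : Set G)) 2
    (by rw [hc]; omega)
  rw [Subgroup.orderOf_mk] at o
  obtain ⟨y, hy, oy⟩ := B.exists_sing
  have yP : Subgroup.zpowers y = P := Subgroup.eq_of_le_of_card_ge (Subgroup.zpowers_le.mpr hy)
    (by rw [B.card, Nat.card_zpowers, oy])
  have y1 : y ∈ Subgroup.centralizer ({z} : Set G) :=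
    Subgroup.mem_centralizer_singleton_iff.mpr (hz y hy)
  have d1 := Subgroup.card_subgroup_dvd_card (Subgroup.centralizer ({z} : Set G))
  refine ⟨z, o, oy ▸ Subgroup.orderOf_dvd_natCard _ y1, ?_⟩
  rcases quasi_or (G := Subgroup.centralizer ({z} : Set G)) (p := 19) (m := 290304) (d1.trans hG)
    (by norm_num) npp19 (y := ⟨y, y1⟩) (by rwa [Subgroup.orderOf_mk]) with
    ⟨T, _, _, _, t1, t2, t3⟩ | k
  · exact absurd t2 (IH T t1 ((Nat.le_of_dvd Nat.card_pos t3).trans_lt
      (cen_lt hna (by rintro rfl; simp at o))) ((t3.trans d1).trans hG))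
  rw [← card_norm B hc, ← yP]
  refine Subgroup.card_dvd_of_le fun g hg => Subgroup.mem_normalizer_fintype ?_
  rintro _ ⟨j, rfl⟩
  obtain ⟨i, hi⟩ := k ⟨g, hg⟩
  have : y ^ i = g * y * g⁻¹ := by simpa using congrArg Subtype.val hi
  change g * y ^ j * g⁻¹ ∈ _
  rw [← conj_zpow, ← this]
  exact zpow_mem (zpow_mem (Subgroup.mem_zpowers y) i) j

theorem not18 (hna : ¬ IsMulCommutative G) (hG : Nat.card G ∣ 5515776) {P : Subgroup G}
    (B : PB G 19 P 18) {z : G} (o : orderOf z = 2)
    (h : 19 ∣ Nat.card (Subgroup.centralizer ({z} : Set G))) :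
    5472 < Nat.card (Subgroup.centralizer ({z} : Set G)) := by
  classical
  obtain ⟨u, hu, -, u4⟩ := exists_invol_col (na_of hna) o
  obtain ⟨g, g1, g2⟩ := exists_sing_pow (q := 19) (by norm_num) (by norm_num) o h
  obtain ⟨Z, s, z1, z2, z3, z4, -⟩ := B.full rfl
  have k : ∀ χ ∈ Z.erase (triv G), 324 ≤ u χ ^ 2 := fun χ hχ => by
    obtain ⟨c1, c2⟩ := Finset.mem_erase.mp hχ
    have a1 := B.val_mod (by rw [o]; norm_num) g1 g2 hu ((z3 χ).mp c2)
    have a2 := (u4 χ).1
    have a3 : dg χ % 19 = 1 ∨ dg χ % 19 = 18 := (z4 χ c2).imp And.right And.right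
    have a4 : dg χ ∣ 290304 := Nat.Coprime.dvd_of_dvd_mul_left (m := 19)
      ((Nat.Prime.coprime_iff_not_dvd (by norm_num)).mpr (by omega)).symm ((dg_dvd χ).trans hG)
    have a5 := (mod76 _ (mem_divs (by norm_num) a4) a3).resolve_left
      fun e => c1 (eq_triv_of_dg (na_of hna) e)
    unfold Int.ModEq at a1
    have a6 : u χ ≤ -18 ∨ 18 ≤ u χ := by omega
    rcases a6 with a6 | a6 <;> nlinarith
  have k1 := Finset.card_nsmul_le_sum _ _ _ k
  have k2 := Finset.sum_le_sum_of_subset_of_nonneg (Finset.subset_univ (Z.erase (triv G)))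
    (f := fun χ => u χ ^ 2) fun _ _ _ => sq_nonneg _
  rw [col_sq hu] at k2
  rw [Finset.card_erase_of_mem z2, z1] at k1
  simp only [nsmul_eq_mul] at k1
  omega

theorem not344736 (hna : ¬ IsMulCommutative G) (hG : Nat.card G = 344736) {P : Subgroup G}
    (B : PB G 19 P 18) (hc : Nat.card (Subgroup.centralizer (P : Set G)) = 19 * 1) : False := by
  classical
  haveI : Fact (Nat.Prime 7) := ⟨by norm_num⟩
  have hC := selfcent_of_card B.card (by rw [hc])
  obtain ⟨s, s1, s2⟩ := exists_inverter B.card (by norm_num) hC (by rw [card_norm B hc]; norm_num)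
  obtain ⟨u, hu, -, u4⟩ := exists_invol_col (na_of hna) s1
  obtain ⟨Q, e, c, hc', ⟨B'⟩⟩ := exists_PB (na_of hna) 7 (m := 49248) hG (by norm_num)
  obtain ⟨-, k⟩ := B'.opts (na_of hna) hG hc' opts7
  obtain ⟨o, o1, -⟩ := B'.sieveF (na_of hna) (by norm_num) hG hc' (fun χ _ _ => by
    have a1 := B.res hC χ
    have a2 : dg χ ≠ 18 := fun e => by
      have b1 := inv_bound B.card (by norm_num) (v := -1) (fun g hg => by
        rw [B.val_sg (by norm_num) hC (χ := χ) (by omega) hg, e]; norm_num) s1 s2 (hu χ)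
      have b2 := (u4 χ).1
      rw [e] at b1 b2
      have := abs_nonneg (u χ)
      have : u χ = 0 := abs_eq_zero.mp (by omega)
      omega
    simp only [List.mem_cons, List.not_mem_nil, or_false] at a1
    simp only [Bool.or_eq_true, Bool.and_eq_true, beq_iff_eq, bne_iff_ne]
    omega) k
  exact Bool.false_ne_true o1

theorem step (hna : ¬ IsMulCommutative G) (hG : Nat.card G ∣ 5515776) (h19 : 19 ∣ Nat.card G)
    (IH : ∀ (T : Type u) [Group T] [Finite T] [IsSimpleGroup T], ¬ IsMulCommutative T →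
      Nat.card T < Nat.card G → Nat.card T ∣ 5515776 → ¬ 19 ∣ Nat.card T) :
    Nat.card G = 5515776 ∧ ∃ P : Subgroup G, Subgroup.centralizer (P : Set G) = P ∧
      Nonempty (PB G 19 P 3) := by
  classical
  have na := na_of hna
  obtain ⟨m, hm⟩ := h19
  have m1 : m ∣ 290304 := Nat.dvd_of_mul_dvd_mul_left (by norm_num : 0 < 19) (hm ▸ hG)
  obtain ⟨h16, hn⟩ := opts19 _ ((kill19 m (mem_divs (by norm_num) m1)).resolve_right
    fun k => card_ne hna k hm)
  obtain ⟨P, e, c, hc, ⟨B⟩⟩ := exists_PB na 19 hm fun k => absurd (k.trans m1) (by norm_num)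
  obtain ⟨he, k⟩ := B.opts na hm hc hn
  simp only [K19, Bool.or_eq_true, Bool.and_eq_true, beq_iff_eq, decide_eq_true_eq] at k
  rcases k with ((⟨⟨a1, rfl⟩, rfl⟩ | ⟨⟨rfl, a1⟩, a2⟩) | ⟨⟨a1, rfl⟩, rfl⟩) | k
  · exact ⟨hm.trans a1, P, selfcent_of_card B.card hc, ⟨B⟩⟩
  · obtain ⟨z, z1, z2, z3⟩ := cen_dvd hna hG IH B hc a1
    have b1 := not18 hna hG B z1 z2
    have c0 : c ≠ 0 := by rintro rfl; exact Nat.card_pos.ne' hc
    have b2 := Nat.le_of_dvd (by positivity) z3
    omega
  · exact (not344736 hna (hm.trans a1) B hc).elim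
  exfalso
  obtain ⟨o, o1, -, o3⟩ := B.sieveF na (by norm_num) hm hc (fun _ _ _ => rfl) k
  rw [okC, Bool.and_eq_true] at o1
  obtain ⟨L, -, -, -, hL⟩ := colsL B na he hm hc o3 o1.1
  have fin : ∀ s : G, orderOf s = 2 → (cl (19 * m) 19 e c (Nat.card (Subgroup.centralizer
      ({s} : Set G))) (fl [7, 19] 19 (Nat.card (Subgroup.centralizer ({s} : Set G)))) o).isEmpty =
        true → False := fun s hs h => by
    obtain ⟨u, hu, -⟩ := exists_invol_col na hs
    have := hL hs hu (B.fl_of (Q := [7, 19]) (fun q hq => by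
      simp only [List.mem_cons, List.not_mem_nil, or_false] at hq
      rcases hq with rfl | rfl <;>
        exact ⟨by norm_num, by norm_num, fun h => absurd (h.trans hG) (by norm_num)⟩) hs rfl hu)
    rw [List.isEmpty_iff.mp h] at this
    exact absurd this List.not_mem_nil
  have o2 := o1.2
  have c0 : c ≠ 0 := by rintro rfl; exact Nat.card_pos.ne' hc
  by_cases h2 : c % 2 = 0
  · obtain ⟨z, z1, z2, z3⟩ := cen_dvd hna hG IH B hc h2
    rw [h2, show (0 == 0) = true from rfl, cond_true, List.all_eq_true] at o2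
    have := o2 _ (mem_divs (by positivity) z3)
    rw [Nat.mod_eq_zero_of_dvd z2] at this
    exact fin z z1 this
  rw [beq_eq_false_iff_ne.mpr h2, cond_false, List.all_eq_true] at o2
  have m0 : 19 * m ≠ 0 := hm ▸ Nat.card_pos.ne'
  by_cases h32 : 19 * m % 32 = 0
  · obtain ⟨s, s1, s2⟩ := exists_two_central (G := G) (k := 5) (by norm_num) (by rw [hm]; omega)
    have := o2 _ (mem_divs m0 (hm ▸ Subgroup.card_subgroup_dvd_card (Subgroup.centralizer {s})))
    rw [h32, show (0 == 0) = true from rfl, cond_true,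
      Nat.mod_eq_zero_of_dvd (m := 32) s2] at this
    exact fin s s1 this
  · obtain ⟨s, s1, s2⟩ := exists_two_central (G := G) (k := 4) (by norm_num) (by rw [hm]; omega)
    have := o2 _ (mem_divs m0 (hm ▸ Subgroup.card_subgroup_dvd_card (Subgroup.centralizer {s})))
    rw [beq_eq_false_iff_ne.mpr h32, cond_false, Nat.mod_eq_zero_of_dvd (m := 16) s2] at this
    exact fin s s1 this

omit [Group G] [Finite G] [IsSimpleGroup G] in
theorem key_aux (n : ℕ) : ∀ (G : Type u) [Group G] [Finite G] [IsSimpleGroup G],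
    ¬ IsMulCommutative G → Nat.card G = n → Nat.card G ∣ 5515776 → 19 ∣ Nat.card G →
    Nat.card G = 5515776 ∧ ∃ P : Subgroup G, Subgroup.centralizer (P : Set G) = P ∧
      Nonempty (PB G 19 P 3) := by
  induction n using Nat.strong_induction_on with
  | _ n ih =>
    intro G _ _ _ hna hn hG h19
    refine step hna hG h19 fun T _ _ _ t1 t2 t3 t4 => ?_
    have := (ih _ (hn ▸ t2) T t1 rfl t3 t4).1
    have := Nat.le_of_dvd (by norm_num) hG
    omega

theorem key19 (hna : ¬ IsMulCommutative G) (hG : Nat.card G ∣ 5515776) (h19 : 19 ∣ Nat.card G) :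
    Nat.card G = 5515776 ∧ ∃ P : Subgroup G, Subgroup.centralizer (P : Set G) = P ∧
      Nonempty (PB G 19 P 3) := key_aux _ G hna rfl hG h19

end H8.K4
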