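import Mathlib
import Cfsg.Agent.Base
import Cfsg.Agent.Lib.K4G.Blk

/-! Values of the character of degree `q² - q` on elements of the defining characteristic. -/

set_option autoImplicit false
set_option linter.unusedSectionVars false
set_option linter.style.haveILetI false

open Cfsg H17.Ord Subgroup H4.Sv

namespace H8.K4

noncomputable def chk (n p A D q r : ℕ) (ok : ℤ → ℕ → Bool) : Bool :=
  (divs n).all fun c => c % p == 0 || (List.range (2 * q + 1)).all fun i =>
    fI ((i : ℤ) - q) fun a => ok a c || !((A - a) % r == 0 &&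
      (n - (n / A : ℕ) * (a * a) + (n / D : ℕ) * ((a - 1) * (a - 1))) % (c * c : ℕ) == 0 &&
      decide (p * ((n / c : ℕ) * ((a - 1) * a) + D * (D + 1) : ℤ) ≤ 2 * n) &&
      ((n / c : ℕ) * (a - 1)) % D == 0)

variable {G : Type*} [Group G] [Finite G] {n p A B D : ℕ}

theorem UB.val (U : UB G n p A B D) (hG : Nat.card G = n) (hp : p.Prime) {q r k : ℕ} (hr : r.Prime)
    (h1 : p ≠ r) (h2 : ¬ r ∣ n / B)
    (h3 : ∀ a : ℤ, 0 ≤ n - (n / A : ℕ) * (a * a) + (n / D : ℕ) * ((a - 1) * (a - 1)) → -q ≤ a ∧ a ≤ q)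
    {ok : ℤ → ℕ → Bool} (h : chk n p A D q r ok = true) {u : G} (u1 : u ≠ 1)
    (hu : u ^ r ^ k = 1) : ok (U.a u) (cc u) = true := by
  obtain ⟨j, -, hj⟩ := (Nat.dvd_prime_pow hr).1 (orderOf_dvd_of_pow_eq_one hu)
  have j0 : j ≠ 0 := by rintro rfl; exact u1 (orderOf_eq_one_iff.1 hj)
  have o1 : ¬ p ∣ orderOf u := fun e =>
    h1 ((Nat.prime_dvd_prime_iff_eq hp hr).1 (hp.dvd_of_dvd_pow (hj ▸ e)))
  have b0 := U.vanB r hr h2 u (hj ▸ dvd_pow_self r j0)
  obtain ⟨N, -, t⟩ := U.tri u u o1 o1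
  have k1 := U.bnd u u1 o1
  have k2 := U.dvdD u o1
  have k3 := U.cong r k u hr hu
  simp only [b0, add_zero, mul_zero, sub_zero] at t k1 k2
  obtain ⟨r1, r2⟩ := h3 (U.a u) (by rw [← t]; positivity)
  have k4 := List.all_eq_true.1 h _ (mem_divs (hG ▸ Nat.card_pos.ne')
    (hG ▸ card_subgroup_dvd_card (centralizer ({u} : Set G))))
  rw [Bool.or_eq_true, beq_iff_eq] at k4
  have k5 := List.all_eq_true.1 (k4.resolve_left fun e => U.cen u u1 o1 (Nat.dvd_of_mod_eq_zero e))
    (U.a u + q).toNat (List.mem_range.2 (by omega))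
  rw [fI_eq, Int.toNat_of_nonneg (by omega), add_sub_cancel_right, Bool.or_eq_true] at k5
  refine k5.resolve_right ?_
  simp only [Bool.not_eq_true', Bool.not_eq_false, Bool.and_eq_true, beq_iff_eq, decide_eq_true_eq]
  refine ⟨⟨⟨Int.emod_eq_zero_of_dvd k3.symm.dvd, Int.emod_eq_zero_of_dvd ?_⟩, k1⟩,
    Int.emod_eq_zero_of_dvd k2⟩
  rw [← t]
  exact Dvd.intro_left N (by push_cast; ring)

theorem UB.count (U : UB G n p A B D) {q : ℕ} (hq : 1 < q) (hA : A + q = q * q) {H : Subgroup G}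
    (hH : A < Nat.card H) (h : ∀ x ∈ H, x ≠ 1 → U.a x = 0 ∨ U.a x = -q) :
    {x | x ∈ H ∧ U.a x ≠ 0}.ncard = q := by
  classical
  haveI := Fintype.ofFinite H
  obtain ⟨m, hm⟩ := U.res H
  set T := Finset.univ.filter fun x : H => U.a x ≠ 0 with hT
  have A0 : (A : ℤ) + q = q * q := by exact_mod_cast hA
  have t1 : (1 : H) ∈ T := by
    rw [hT, Finset.mem_filter, OneMemClass.coe_one, U.a1]
    exact ⟨Finset.mem_univ _, fun e => by nlinarith⟩
  rw [← Finset.sum_filter_ne_zero, ← hT, ← Finset.add_sum_erase _ _ t1, OneMemClass.coe_one, U.a1,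
    Finset.sum_congr rfl (g := fun _ => -(q : ℤ)) fun x hx => by
      rw [Finset.mem_erase, hT, Finset.mem_filter] at hx
      exact (h x x.2 fun e => hx.1 (Subtype.ext e)).resolve_left hx.2.2,
    Finset.sum_const, Finset.card_erase_of_mem t1, nsmul_eq_mul,
    Nat.cast_sub (Finset.card_pos.2 ⟨_, t1⟩)] at hm
  have t2 : (1 : ℤ) ≤ T.card := by exact_mod_cast Finset.card_pos.2 ⟨_, t1⟩
  have H0 : (A : ℤ) < Nat.card H := by exact_mod_cast hH
  have q0 : (1 : ℤ) < q := by exact_mod_cast hq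
  obtain rfl : m = 0 := by
    by_contra e
    have : (1 : ℤ) ≤ m := by exact_mod_cast Nat.pos_of_ne_zero e
    push_cast at hm
    nlinarith
  have t3 : (T.card : ℤ) = q := by
    apply mul_left_cancel₀ (show (q : ℤ) ≠ 0 by omega)
    push_cast at hm
    linear_combination A0 - hm
  have t4 : {x | x ∈ H ∧ U.a x ≠ 0} = Subtype.val '' (T : Set H) := by
    ext x; simp [hT, and_comm]
  rw [t4, Set.ncard_image_of_injective _ Subtype.val_injective, Set.ncard_coe_finset]
  exact_mod_cast t3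

theorem val7 (U : UB G 5663616 43 42 343 384) (hG : Nat.card G = 5663616) {u : G} {k : ℕ}
    (u1 : u ≠ 1) (hu : u ^ 7 ^ k = 1) :
    (U.a u = 0 ∧ cc u ∣ 49) ∨ (U.a u = -7 ∧ cc u = 2744) := by
  have := U.val hG (by norm_num) (q := 7) (by norm_num) (by norm_num) (by norm_num)
    (fun a h => by
      norm_num at h ⊢
      constructor <;> by_contra e <;> nlinarith [sq_nonneg (a + 8), sq_nonneg (a - 8)])
    (ok := fun a c => (a == 0 && 49 % c == 0) || (a == -7 && c == 2744)) (by decide +kernel) u1 hu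
  simpa [Nat.dvd_iff_mod_eq_zero] using this

theorem val9 (U : UB G 42573600 73 72 729 800) (hG : Nat.card G = 42573600) {u : G} {k : ℕ}
    (u1 : u ≠ 1) (hu : u ^ 3 ^ k = 1) :
    (U.a u = 0 ∧ cc u ∣ 81) ∨ (U.a u = -9 ∧ cc u = 7290) := by
  have := U.val hG (by norm_num) (q := 9) (by norm_num) (by norm_num) (by norm_num)
    (fun a h => by
      norm_num at h ⊢
      constructor <;> by_contra e <;> nlinarith [sq_nonneg (a + 10), sq_nonneg (a - 10)])
    (ok := fun a c => (a == 0 && 81 % c == 0) || (a == -9 && c == 7290)) (by decide +kernel) u1 hu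
  simpa [Nat.dvd_iff_mod_eq_zero] using this

theorem val8 (U : UB G 5515776 19 56 512 567) (hG : Nat.card G = 5515776) {u : G} {k : ℕ}
    (u1 : u ≠ 1) (hu : u ^ 2 ^ k = 1) : (U.a u = 0 ∧ cc u ∣ 64) ∨ U.a u = -8 := by
  have := U.val hG (by norm_num) (q := 8) (by norm_num) (by norm_num) (by norm_num)
    (fun a h => by
      norm_num at h ⊢
      constructor <;> by_contra e <;> nlinarith [sq_nonneg (a + 9), sq_nonneg (a - 9)])
    (ok := fun a c => (a == 0 && 64 % c == 0) || a == -8) (by decide +kernel) u1 hu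
  simpa [Nat.dvd_iff_mod_eq_zero] using this

theorem inv8 (U : UB G 5515776 19 56 512 567) (hG : Nat.card G = 5515776) {u : G}
    (u1 : u ≠ 1) (hu : u ^ 2 = 1) : U.a u ≠ 0 := fun e => by
  have o := orderOf_eq_prime hu u1
  obtain ⟨N, t0, t⟩ := U.tri u u (by rw [o]; norm_num) (by rw [o]; norm_num)
  rw [t0 (sq u ▸ hu) (sq u ▸ hu), e, U.vanB 2 (by norm_num) (by norm_num) u o.symm.dvd] at t
  norm_num at t

end H8.K4
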