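import Mathlib
import Cfsg.Agent.Base
import Cfsg.Agent.Lib.K4G.Val
import Cfsg.Agent.Lib.H4.SylRules
import Cfsg.Agent.Lib.H4.Sieve2
import Cfsg.Agent.Lib.Transfer.Control
import Cfsg.Agent.Lib.Core.CoprimeAbelian

/-! Sylow subgroups for the defining characteristic are trivial intersection subgroups. -/

set_option autoImplicit false
set_option linter.unusedSectionVars false
set_option linter.style.haveILetI false

open Cfsg H17.Ord Subgroup

namespace H8.K4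

variable {G : Type*} [Group G] [Finite G]

theorem card_le {H : Subgroup G} {x : G} (hx : x ∈ H) {T : Set G}
    (h : ∀ g ∈ H, g * x * g⁻¹ ∈ T) :
    Nat.card H ≤ Nat.card (centralizer ({x} : Set G) ⊓ H : Subgroup G) * T.ncard := by
  have e : centralizer ({⟨x, hx⟩} : Set H) = (centralizer ({x} : Set G)).subgroupOf H := by
    ext g; simp [mem_centralizer_singleton_iff, mem_subgroupOf, Subtype.ext_iff]
  rw [← (centralizer ({⟨x, hx⟩} : Set H)).card_mul_index, ← H6.card_isConj_eq_index, e,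
    H1.card_subgroupOf_eq, ← Nat.card_coe_set_eq]
  refine Nat.mul_le_mul_left _ (Nat.card_le_card_of_injective (fun y => ⟨y.1.1, ?_⟩)
    fun a b e => Subtype.ext (Subtype.ext (Subtype.mk.inj e)))
  obtain ⟨c, hc⟩ := isConj_iff.1 y.2
  rw [← hc]
  exact h c c.2

theorem mem_smul {r : ℕ} (Q : Sylow r G) (g : G) {x : G} (hx : x ∈ Q) : g * x * g⁻¹ ∈ g • Q :=
  smul_mem_pointwise_smul x (MulAut.conj g) (Q : Subgroup G) hx

/-- the data extracted from the characters -/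
structure TH (r q : ℕ) (K : G → Prop) : Prop where
  pw : ∃ k, q = r ^ (k + 1)
  card : ∀ Q : Sylow r G, Nat.card Q = q ^ 3
  val : ∀ Q : Sylow r G, ∀ u ∈ Q, u ≠ 1 → (¬ K u ∧ cc u ∣ q ^ 2) ∨ (K u ∧ cc u = q ^ 3 * (q + 1))
  cnt : ∀ Q : Sylow r G, {x | x ∈ Q ∧ K x}.ncard = q
  cls : ∀ g h, K g → K (h * g * h⁻¹)
  one : K 1

variable {r q : ℕ} [hr : Fact r.Prime] {K : G → Prop}

theorem UB.th {n p A B D k : ℕ} (U : UB G n p A B D) (hG : Nat.card G = n) (hq : q = r ^ (k + 1))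
    (h1 : q ^ 3 ∣ n) (h2 : ¬ q ^ 3 * r ∣ n) (hA : A + q = q * q)
    (h : ∀ (u : G) (j : ℕ), u ≠ 1 → u ^ r ^ j = 1 →
      (U.a u = 0 ∧ cc u ∣ q ^ 2) ∨ (U.a u = -q ∧ cc u = q ^ 3 * (q + 1))) :
    TH r q fun x => U.a x ≠ 0 := by
  have q1 : 1 < q := hq ▸ Nat.one_lt_pow (by omega) hr.out.one_lt
  have c : ∀ Q : Sylow r G, Nat.card Q = q ^ 3 := fun Q => by
    rw [hq, ← pow_mul] at h1 h2 ⊢
    exact H36.card_sylow_eq_pow Q (hG ▸ h1) (hG ▸ h2)
  have v : ∀ Q : Sylow r G, ∀ u ∈ Q, u ≠ 1 → _ := fun Q u hu u1 =>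
    h u _ u1 (congrArg Subtype.val (Q.isPGroup' ⟨u, hu⟩).choose_spec)
  refine ⟨⟨k, hq⟩, c, fun Q u hu u1 => (v Q u hu u1).imp (fun e => ⟨not_not.2 e.1, e.2⟩)
    fun e => ⟨by rw [e.1]; omega, e.2⟩, fun Q => U.count q1 hA (by rw [c]; nlinarith)
      fun u hu u1 => (v Q u hu u1).imp And.left And.left, fun g h e => by rwa [U.cls], ?_⟩
  rw [U.a1]
  have : A ≠ 0 := by rintro rfl; nlinarith
  omega

namespace TH
variable (T : TH r q K)
include T

theorem one_lt : 1 < q := by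
  obtain ⟨k, rfl⟩ := T.pw
  exact Nat.one_lt_pow (by omega) hr.out.one_lt

theorem K_of_le {Q R : Sylow r G} {u : G} (hu : u ∈ R) (h : (Q : Subgroup G) ≤ centralizer {u}) :
    K u := by
  by_cases u1 : u = 1
  · exact u1 ▸ T.one
  refine ((T.val R u hu u1).resolve_left fun e => ?_).1
  have := Nat.le_of_dvd (by have := T.one_lt; positivity) ((card_dvd_of_le h).trans e.2)
  rw [T.card] at this
  exact absurd this (not_le.2 (Nat.pow_lt_pow_right T.one_lt (by norm_num)))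

theorem K_of_comm {Q : Sylow r G} {u f : G} (hu : u ∈ Q) {l : ℕ} (hl : l.Prime) (h1 : l ≠ r)
    (h2 : l ∣ orderOf f) (h : f * u = u * f) : K u := by
  by_cases u1 : u = 1
  · exact u1 ▸ T.one
  refine ((T.val Q u hu u1).resolve_left fun e => h1 ?_).1
  obtain ⟨k, rfl⟩ := T.pw
  have := (h2.trans (orderOf_dvd_natCard _ (mem_centralizer_singleton_iff.2 h))).trans e.2
  exact (Nat.prime_dvd_prime_iff_eq hl hr.out).1 (hl.dvd_of_dvd_pow (hl.dvd_of_dvd_pow this))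

theorem exists_cen (Q : Sylow r G) : ∃ z ∈ Q, z ≠ 1 ∧ (Q : Subgroup G) ≤ centralizer {z} := by
  haveI : Nontrivial Q := Finite.one_lt_card_iff_nontrivial.1 (by
    rw [T.card]; exact Nat.one_lt_pow (by omega) T.one_lt)
  haveI := Q.isPGroup'.center_nontrivial
  obtain ⟨z, hz⟩ := exists_ne (1 : center Q)
  exact ⟨z.1.1, z.1.2, fun e => hz (Subtype.ext (Subtype.ext e)), fun g hg =>
    mem_centralizer_singleton_iff.2 (congrArg Subtype.val (mem_center_iff.1 z.2 ⟨g, hg⟩))⟩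

theorem exists_not (Q : Sylow r G) {H : Subgroup G} (h : H ≤ Q) (hc : q < Nat.card H) :
    ∃ x ∈ H, ¬ K x := by
  by_contra e
  push Not at e
  have := Set.ncard_le_ncard (s := H) (t := {x | x ∈ Q ∧ K x}) fun x hx => ⟨h hx, e x hx⟩
  rw [T.cnt, ← Nat.card_coe_set_eq] at this
  exact absurd hc (not_lt.2 this)

theorem eq_of_card (Q : Sylow r G) {H : Subgroup G} (h : ∀ x ∈ H, x ∈ Q ∧ K x)
    (hc : q ≤ Nat.card H) {x : G} (h1 : x ∈ Q) (h2 : K x) : x ∈ H :=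
  (Set.eq_of_subset_of_ncard_le (s := H) (t := {x | x ∈ Q ∧ K x}) (fun x hx => h x hx)
    (by rw [T.cnt, ← Nat.card_coe_set_eq]; exact hc)).ge ⟨h1, h2⟩

/-- the special elements are central, and lie in one Sylow subgroup only -/
def Z (_ : TH r q K) : Prop := (∀ Q : Sylow r G, ∀ u ∈ Q, K u → (Q : Subgroup G) ≤ centralizer {u}) ∧
  ∀ Q R : Sylow r G, ∀ u, u ≠ 1 → (Q : Subgroup G) ≤ centralizer {u} →
    (R : Subgroup G) ≤ centralizer {u} → u ∈ Q → Q = R

theorem ti (hZ : T.Z) {Q R : Sylow r G} {u : G} (u1 : u ≠ 1) (h1 : u ∈ Q) (h2 : u ∈ R) : Q = R := by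
  have k : ∀ {Q R : Sylow r G} {u : G}, u ≠ 1 → K u → u ∈ Q → u ∈ R → Q = R :=
    fun u1 e h1 h2 => hZ.2 _ _ _ u1 (hZ.1 _ _ h1 e) (hZ.1 _ _ h2 e) h1
  rcases T.val Q u h1 u1 with e | e
  · obtain ⟨j, hj⟩ := T.pw
    obtain ⟨S, hS⟩ := (IsPGroup.of_card_dvd_pow (p := r) (G := centralizer ({u} : Set G))
      (by rw [hj, ← pow_mul] at e; exact e.2)).exists_le_sylow
    have : ∀ Q : Sylow r G, u ∈ Q → Q = S := fun Q h => by
      obtain ⟨z, z1, z2, z3⟩ := T.exists_cen Q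
      exact k z2 (T.K_of_le z1 z3) z1 (hS (mem_centralizer_singleton_iff.2
        (mem_centralizer_singleton_iff.1 (z3 h)).symm))
    exact (this Q h1).trans (this R h2).symm
  · exact k u1 e.1 h1 h2

theorem relIndex (hZ : T.Z) {Q R : Sylow r G} (h : R ≠ Q) : (R : Subgroup G).relIndex Q = q ^ 3 := by
  have := H1.card_inf_mul_relIndex (R : Subgroup G) Q
  rwa [(eq_bot_iff_forall ((R : Subgroup G) ⊓ Q)).2 fun x hx => by_contra fun e => h (T.ti hZ e hx.1 hx.2), card_bot,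
    one_mul, T.card] at this

theorem card_sylow [IsSimpleGroup G] (hZ : T.Z) {m : ℕ} (hG : Nat.card G = q ^ 3 * m) (hm : m ≠ 1)
    (h : ∀ d ∈ H4.Sv.divs m, d % q ^ 3 = 1 → d = 1 ∨ d = q ^ 3 + 1) :
    Nat.card (Sylow r G) = q ^ 3 + 1 := by
  obtain ⟨Q⟩ : Nonempty (Sylow r G) := inferInstance
  have q1 : 1 < q ^ 3 := Nat.one_lt_pow (by omega) T.one_lt
  have h1 := H4.card_sylow_modEq_of_dvd Q fun R hR => (T.relIndex hZ hR).symm.dvd
  have h2 : (Q : Subgroup G).index = m := Nat.eq_of_mul_eq_mul_left (by omega)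
    (by rw [← hG, ← T.card Q, card_mul_index] : q ^ 3 * _ = q ^ 3 * m)
  refine (h _ (H4.Sv.mem_divs (h2 ▸ index_ne_zero_of_finite) (h2 ▸ Q.card_dvd_index))
    (Eq.trans h1 (Nat.mod_eq_of_lt q1))).resolve_left fun e => ?_
  haveI := (Nat.card_eq_one_iff_unique.1 e).1
  rcases (Q.normal_of_subsingleton).eq_bot_or_eq_top with e | e
  · have := T.card Q
    rw [e, card_bot] at this; omega
  · rw [e, index_top] at h2; exact hm h2.symm

end TH

end H8.K4
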