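import Mathlib
import Cfsg.Agent.Base
import Cfsg.Agent.Lib.K4G.TI
import Cfsg.Prelude.Def_CaseTheorems

/-! A simple group of order `42573600` has `2`-rank at most two. -/

set_option autoImplicit false
set_option linter.unusedSectionVars false
set_option linter.style.haveILetI false

open Cfsg H17.Ord Subgroup

namespace H8.K4

variable {G : Type*} [Group G] [Finite G] {K : G → Prop}

instance fact3 : Fact (Nat.Prime 3) := ⟨by norm_num⟩

theorem smul_le_cen {r : ℕ} {Q : Sylow r G} {z g : G} (h : (Q : Subgroup G) ≤ centralizer {z})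
    (hg : g ∈ centralizer ({z} : Set G)) : ((g • Q : Sylow r G) : Subgroup G) ≤ centralizer {z} := by
  rintro _ ⟨x, hx, rfl⟩
  exact mul_mem (mul_mem hg (h hx)) (inv_mem hg)

theorem eq9 (T : TH 3 9 K) (Q R : Sylow 3 G) (u : G) (u1 : u ≠ 1)
    (h1 : (Q : Subgroup G) ≤ centralizer {u}) (h2 : (R : Subgroup G) ≤ centralizer {u})
    (hu : u ∈ Q) : Q = R := by
  by_contra hne
  have c : Nat.card (centralizer ({u} : Set G)) = 7290 :=
    ((T.val Q u hu u1).resolve_left fun e => e.1 (T.K_of_le hu h1)).2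
  obtain ⟨L, _, hL⟩ := H4.Sv.exists_index_two (G := centralizer ({u} : Set G)) (m := 3645) c
    (by decide)
  have k : ∀ S : Sylow 3 G, (S : Subgroup G) ≤ centralizer {u} →
      (S : Subgroup G) ≤ L.map (centralizer {u}).subtype := fun S h x hx => by
    obtain ⟨j, hj⟩ := S.isPGroup'.exists_orderOf_eq_pow ⟨x, hx⟩
    obtain ⟨m, hm⟩ := exists_pow_eq_self_of_coprime (x := x) (n := 2) (by
      rw [orderOf_mk] at hj; rw [hj]; exact Nat.Coprime.pow_right _ (by norm_num))
    rw [← hm]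
    have := L.pow_index_mem ⟨x, h hx⟩
    rw [hL] at this
    exact pow_mem (mem_map_of_mem (centralizer {u}).subtype this) m
  obtain ⟨y, y1, y2, y3⟩ := H4.Sv.exists_sylow_count (Ne.symm hne) (k Q h1) (k R h2)
  have c1 := L.card_mul_index
  obtain ⟨w, hw⟩ := card_dvd_of_le (le_inf le_normalizer (k Q h1))
  rw [hw, T.card, card_subtype, show Nat.card L = 3645 by rw [hL, c] at c1; omega] at y1
  have : y ∣ 5 := Dvd.intro w (by linarith)
  have := Nat.le_of_dvd (by norm_num) this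
  interval_cases y <;> omega

theorem pow3 {c : ℕ} (h : c ∣ 9 ^ 3) : c ∈ [1, 3, 9, 27, 81, 243, 729] := by
  obtain ⟨j, h1, rfl⟩ := (Nat.dvd_prime_pow (m := 6) Nat.prime_three).1 h
  interval_cases j <;> simp

theorem Z9 (T : TH 3 9 K) : T.Z := by
  refine ⟨fun Q u hu e => ?_, eq9 T⟩
  haveI : Fact (Nat.Prime 5) := ⟨by norm_num⟩
  obtain ⟨z, z1, z2, z3⟩ := T.exists_cen Q
  have c := ((T.val Q z z1 z2).resolve_left fun e => e.1 (T.K_of_le z1 z3)).2
  obtain ⟨⟨f, f1⟩, f2⟩ := exists_prime_orderOf_dvd_card' (G := centralizer ({z} : Set G)) 5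
    (by rw [show Nat.card _ = _ from c]; norm_num)
  rw [orderOf_mk] at f2
  have f3 : f ^ 5 ^ 1 = 1 := by rw [pow_one, ← f2, pow_orderOf_eq_one]
  have f4 : f ∈ normalizer ((Q : Subgroup G) : Set G) :=
    Sylow.smul_eq_iff_mem_normalizer.1 (eq9 T Q _ z z2 z3 (smul_le_cen z3 f1) z1).symm
  set W := (Q : Subgroup G) ⊓ centralizer {f} with hW
  have w1 : ∀ x ∈ W, x ∈ Q ∧ K x := fun x hx => ⟨hx.1, T.K_of_comm hx.1 (l := 5) (by norm_num)
    (by norm_num) f2.symm.dvd (mem_centralizer_singleton_iff.1 hx.2).symm⟩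
  have w2 : Nat.card W = 9 := by
    have a1 := H4.card_modEq_card_inf_centralizer f4 f3
    have a2 := pow3 (T.card Q ▸ card_dvd_of_le (inf_le_left : W ≤ Q))
    have a3 : ¬ 9 < Nat.card W := fun h => by
      obtain ⟨x, x1, x2⟩ := T.exists_not Q inf_le_left h
      exact x2 (w1 x x1).2
    rw [T.card, ← hW, Nat.ModEq] at a1
    generalize Nat.card W = c at *
    simp only [List.mem_cons, List.not_mem_nil, or_false] at a2
    omega
  have uW := T.eq_of_card Q w1 w2.ge hu e
  have w3 : W ≤ centralizer {u} := fun x hx => mem_centralizer_singleton_iff.2 (congrArg Subtype.val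
    ((IsPGroup.isMulCommutative_of_card_eq_prime_sq (p := 3) w2).is_comm.comm ⟨x, hx⟩ ⟨u, uW⟩))
  have f5 : f ∈ normalizer ((centralizer {u} ⊓ (Q : Subgroup G) : Subgroup G) : Set G) :=
    inf_normalizer_le_normalizer_inf ⟨le_normalizer (mem_centralizer_singleton_iff.2
      (mem_centralizer_singleton_iff.1 uW.2).symm), f4⟩
  have a1 := H4.card_modEq_card_inf_centralizer f5 f3
  have a2 := pow3 (T.card Q ▸ card_dvd_of_le (inf_le_right : centralizer {u} ⊓ _ ≤ (Q : Subgroup G)))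
  have a3 := card_le hu (T := {x | x ∈ Q ∧ K x}) fun g hg =>
    ⟨mul_mem (mul_mem hg hu) (inv_mem hg), T.cls _ _ e⟩
  rw [inf_assoc, ← hW, inf_eq_right.2 w3, w2, Nat.ModEq] at a1
  rw [T.cnt, T.card] at a3
  simp only [List.mem_cons, List.not_mem_nil, or_false] at a2
  exact inf_eq_right.1 (eq_of_le_of_card_ge inf_le_right (by rw [T.card]; omega))

theorem rank9 [IsSimpleGroup G] (hG : Nat.card G = 42573600) (T : TH 3 9 K) : PRankLE 2 2 G := by
  intro E hE h2
  by_contra hc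
  have hZ := Z9 T
  have n3 := T.card_sylow hZ (m := 58400) hG (by norm_num) (by decide +kernel)
  obtain ⟨Q⟩ : Nonempty (Sylow 3 G) := inferInstance
  have c1 := (normalizer ((Q : Subgroup G) : Set G)).card_mul_index
  erw [← Q.card_eq_index_normalizer, n3, hG] at c1
  obtain ⟨V, hV⟩ := Sylow.exists_subgroup_card_pow_prime
    (G := normalizer ((Q : Subgroup G) : Set G)) 2 (n := 4) (by omega)
  set V' := V.map (normalizer ((Q : Subgroup G) : Set G)).subtype with hV'
  have v1 : Nat.card V' = 16 := by rw [card_subtype, hV]; rfl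
  obtain ⟨S, hS⟩ := (IsPGroup.of_card (p := 2) (n := 4) v1).exists_le_sylow
  have pE : IsPGroup 2 E := fun x => ⟨1, Subtype.ext (h2 x x.2)⟩
  obtain ⟨S', hS'⟩ := pE.exists_le_sylow
  obtain ⟨g, rfl⟩ := MulAction.exists_smul_eq G S' S
  set E' := E.map (MulAut.conj g).toMonoidHom with hE'
  have e1 : E' ≤ (g • S' : Sylow 2 G) := by
    rintro _ ⟨x, hx, rfl⟩
    exact mem_smul S' g (hS' hx)
  have e2 : Nat.card E' = Nat.card E := card_map_of_injective (MulAut.conj g).injective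
  have e3 : ∀ x ∈ E', x ^ 2 = 1 := by
    rintro _ ⟨x, hx, rfl⟩
    rw [← map_pow, h2 x hx, map_one]
  have e4 := H1.card_mul_relIndex_of_le hS
  rw [v1, H36.card_sylow_eq_pow _ (k := 5) (by rw [hG]; norm_num) (by rw [hG]; norm_num)] at e4
  have e5 := relIndex_le_of_le_right (H := V') e1 (by omega)
  have e6 := H1.card_inf_mul_relIndex V' E'
  obtain ⟨u, u1, u2⟩ := T.exists_not Q le_rfl (by rw [T.card]; norm_num)
  refine u2 (T.K_of_le u1 (H2.le_of_forall_centralizer_le (A := V' ⊓ E') (K := Q)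
    ⟨⟨fun a b => Subtype.ext ?_⟩⟩ (fun h => ?_) (inf_le_left.trans (map_subtype_le _)) ?_
    fun a ha a1 x hx => ?_))
  · obtain ⟨x, x1, x2⟩ := a.2.2
    obtain ⟨y, y1, y2⟩ := b.2.2
    have : x * y = y * x := congrArg Subtype.val (hE.is_comm.comm ⟨x, x1⟩ ⟨y, y1⟩)
    rw [coe_mul, coe_mul, ← x2, ← y2, ← map_mul, this, map_mul]
  · obtain ⟨y, hy⟩ := h.exists_ofOrder_eq_natCard
    have := Nat.le_of_dvd two_pos (orderOf_dvd_of_pow_eq_one (x := y) (Subtype.ext (e3 y y.2.2)))
    have e7 : V'.relIndex E' ≤ 2 := by omega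
    nlinarith
  · rw [T.card]
    exact Nat.Coprime.coprime_dvd_left (v1 ▸ card_dvd_of_le inf_le_left) (by norm_num)
  · exact mem_centralizer_singleton_iff.2 (mem_centralizer_singleton_iff.1 (hZ.1 Q x hx.1
      (T.K_of_comm hx.1 Nat.prime_two (by norm_num) (orderOf_eq_prime (e3 a ha.2) a1).symm.dvd
        (mem_centralizer_singleton_iff.1 hx.2).symm) u1)).symm

end H8.K4
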